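import Cfsg.Agent.Blocks.Defect
import Cfsg.Agent.BlocksCharsC.RegularSupport
import Cfsg.Agent.Codegree.Sums
import Mathlib.LinearAlgebra.Matrix.ToLinearEquiv

/-!
# Blocks with a central defect group

For a central p-subgroup `Z`, a block has defect group `Z` as soon as it contains a character `θ`
with `θ(1)_p = [G : Z]_p`; conversely all members of such a block have this property and one of
them has `Z` in its kernel.
-/

set_option autoImplicit false
set_option linter.style.haveILetI false
set_option linter.unusedSectionVars false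

namespace CfsgLib.CentralDefect

open Cfsg
open CfsgLib.Blocks
open scoped ComplexConjugate

universe u

variable {p : ℕ} [hp : Fact p.Prime] {M : Ideal AlgInt} [hMp : M.IsPrime]

/-! ### Arithmetic in the local ring -/

/-- Comparing valuations along `n x = m y`. -/
theorem factorization_le_of_mul_eq (hM : Cfsg.IsPModular p M) {n m : ℕ} (hm : m ≠ 0)
    {x y : ℂ} (hx : Cfsg.MemLocalRing M x) (hy : ¬ Cfsg.MemLocalIdeal M y)
    (h : (n : ℂ) * x = (m : ℂ) * y) : n.factorization p ≤ m.factorization p := by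
  by_contra hlt
  push Not at hlt
  obtain ⟨k, hk⟩ : p ^ (m.factorization p + 1) ∣ n :=
    (pow_dvd_pow p hlt).trans (Nat.ordProj_dvd n p)
  set m' := m / p ^ m.factorization p with hm'
  have hmm : p ^ m.factorization p * m' = m := Nat.ordProj_mul_ordCompl_eq_self m p
  have hm'p : ¬ p ∣ m' := Nat.not_dvd_ordCompl hp.out hm
  have hm'0 : (m' : ℂ) ≠ 0 := Nat.cast_ne_zero.2 fun h0 => hm'p (h0 ▸ dvd_zero p)
  refine hy ?_
  have hpow : ((p ^ m.factorization p : ℕ) : ℂ) ≠ 0 :=
    Nat.cast_ne_zero.2 (pow_ne_zero _ hp.out.ne_zero)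
  have hy' : y = (p : ℂ) * ((k : ℂ) * x * (m' : ℂ)⁻¹) := by
    have h : ((p ^ m.factorization p * p * k : ℕ) : ℂ) * x =
        ((p ^ m.factorization p * m' : ℕ) : ℂ) * y := by rw [hmm, ← pow_succ, ← hk]; exact h
    push_cast at h hpow
    field_simp
    apply mul_left_cancel₀ hpow
    linear_combination -h
  rw [hy']
  exact memLocalIdeal_mul_right ((memLocalIdeal_natCast_iff hM p).2 dvd_rfl)
    ((localRing M).mul_mem ((localRing M).mul_mem (memLocalRing_natCast k) hx)
      (memLocalRing_natCast_inv hM hm'p))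

/-- Membership in the local ideal along `n x = m y` with equal valuations. -/
theorem memLocalIdeal_of_mul_eq (hM : Cfsg.IsPModular p M) {n m : ℕ} (hn : n ≠ 0) (hm : m ≠ 0)
    {x y : ℂ} (hv : n.factorization p = m.factorization p) (hx : Cfsg.MemLocalIdeal M x)
    (h : (n : ℂ) * x = (m : ℂ) * y) : Cfsg.MemLocalIdeal M y := by
  set m' := m / p ^ m.factorization p with hm'
  set n' := n / p ^ n.factorization p with hn'
  have hmm : p ^ m.factorization p * m' = m := Nat.ordProj_mul_ordCompl_eq_self m p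
  have hnn : p ^ m.factorization p * n' = n := by
    rw [← hv]; exact Nat.ordProj_mul_ordCompl_eq_self n p
  have hm'p : ¬ p ∣ m' := Nat.not_dvd_ordCompl hp.out hm
  have hm'0 : (m' : ℂ) ≠ 0 := Nat.cast_ne_zero.2 fun h0 => hm'p (h0 ▸ dvd_zero p)
  have hpow : ((p ^ m.factorization p : ℕ) : ℂ) ≠ 0 :=
    Nat.cast_ne_zero.2 (pow_ne_zero _ hp.out.ne_zero)
  have hy' : y = ((n' : ℂ) * (m' : ℂ)⁻¹) * x := by
    have h : ((p ^ m.factorization p * n' : ℕ) : ℂ) * x =
        ((p ^ m.factorization p * m' : ℕ) : ℂ) * y := by rw [hmm, hnn]; exact h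
    push_cast at h hpow
    field_simp
    apply mul_left_cancel₀ hpow
    linear_combination -h
  rw [hy']
  exact memLocalIdeal_mul_left
    ((localRing M).mul_mem (memLocalRing_natCast n') (memLocalRing_natCast_inv hM hm'p)) hx

variable {G : Type u} [Group G] [Fintype G]

/-- A combination of group elements with coefficients in `M` does not act as a scalar prime to
`p`. -/
theorem not_scalar_of_coeff_mem (hM : Cfsg.IsPModular p M) {V : Type*} [AddCommGroup V]
    [Module ℂ V] [FiniteDimensional ℂ V] [Nontrivial V] (ρ : Representation ℂ G V)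
    (a : G → AlgInt) (ha : ∀ g, a g ∈ M) {m : ℕ} (hm : ¬ p ∣ m)
    (h : ∑ g : G, ((a g : AlgInt) : ℂ) • ρ g = (m : ℂ) • LinearMap.id) : False := by
  classical
  obtain ⟨w, hw⟩ := exists_ne (0 : V)
  obtain ⟨φ, hφ⟩ := Module.Projective.exists_dual_ne_zero ℂ hw
  set K : Matrix G G AlgInt :=
    Matrix.of fun y x => a (x * y⁻¹) - if x = y then (m : AlgInt) else 0 with hK
  have hdet : K.det = 0 := by
    set u : G → ℂ := fun y => φ (ρ y w) with hu
    have hu0 : u ≠ 0 := fun h0 => hφ (by simpa [hu] using congrFun h0 1)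
    have hmul : (K.map fun z : AlgInt => (z : ℂ)).mulVec u = 0 := by
      funext y
      have hh := congrArg (fun T : V →ₗ[ℂ] V => φ (T (ρ y w))) h
      simp only [LinearMap.sum_apply, LinearMap.smul_apply, map_sum, map_smul, smul_eq_mul,
        LinearMap.id_apply] at hh
      simp only [Matrix.mulVec, dotProduct, Matrix.map_apply, hK, Matrix.of_apply,
        AddSubgroupClass.coe_sub, sub_mul, Finset.sum_sub_distrib, Pi.zero_apply]
      rw [sub_eq_zero, Finset.sum_eq_single y (f := fun x => ((if x = y then (m : AlgInt) else 0 :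
        AlgInt) : ℂ) * u x) (fun x _ hx => by simp [hx]) (by simp)]
      simp only [if_true, hu]
      rw [show (((m : AlgInt)) : ℂ) = (m : ℂ) from map_natCast AlgInt.val m]
      rw [← hh, ← Equiv.sum_comp (Equiv.mulRight y)]
      refine Finset.sum_congr rfl fun g _ => ?_
      simp [map_mul, Module.End.mul_apply]
    have hd : (K.map fun z : AlgInt => (z : ℂ)).det = 0 :=
      Matrix.exists_mulVec_eq_zero_iff.1 ⟨u, hu0, hmul⟩
    have hmap := RingHom.map_det (AlgInt.val.toRingHom) K
    refine Subtype.ext ?_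
    show ((K.det : AlgInt) : ℂ) = 0
    rw [← hd]
    exact hmap
  have hred := RingHom.map_det (Ideal.Quotient.mk M) K
  rw [hdet, map_zero] at hred
  have hKq : (Ideal.Quotient.mk M).mapMatrix K =
      Matrix.scalar G (-(Ideal.Quotient.mk M (m : AlgInt))) := by
    ext y x
    simp only [RingHom.mapMatrix_apply, Matrix.map_apply, hK, Matrix.of_apply, map_sub,
      Ideal.Quotient.eq_zero_iff_mem.2 (ha _), zero_sub, Matrix.scalar_apply, Matrix.diagonal_apply]
    by_cases hxy : x = y
    · simp [hxy]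
    · simp [hxy, Ne.symm hxy]
  rw [hKq, Matrix.scalar_apply, Matrix.det_diagonal, Finset.prod_const] at hred
  have h0 := eq_zero_of_pow_eq_zero hred.symm
  rw [neg_eq_zero, Ideal.Quotient.eq_zero_iff_mem, IsPModular.natCast_mem_iff hM m] at h0
  exact hm h0

theorem index_mul_charValue (θ : IrrCharacter G) (g : G) :
    ((Subgroup.centralizer ({g} : Set G)).index : ℂ) * (θ : G → ℂ) g =
      (Cfsg.charDegree (θ : G → ℂ) : ℂ) * Cfsg.centralChar (θ : G → ℂ) g := by
  obtain ⟨hd0, hd⟩ := CfsgLib.Codegree.exists_degree θ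
  have h0 : (Cfsg.charDegree (θ : G → ℂ) : ℂ) ≠ 0 := Nat.cast_ne_zero.2 hd0.ne'
  rw [Cfsg.centralChar, hd]
  field_simp

/-- The degree of an irreducible character divides the index of a central subgroup. -/
theorem charDegree_dvd_index (θ : IrrCharacter G) (Z : Subgroup G) (hZ : Z ≤ Subgroup.center G) :
    Cfsg.charDegree (θ : G → ℂ) ∣ Z.index := by
  obtain ⟨n, ρ, hρ, hρc⟩ := θ.2
  rw [← hρc, CfsgLib.Codegree.charDegree_character]
  exact CfsgLib.Characters.finrank_dvd_index ρ Z fun z hz =>
    CfsgLib.Characters.central_scalar ρ (hZ hz)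

/-- A character with the full p-part of `[G : Z]` in its degree takes a value outside `M`. -/
theorem exists_value_not_mem (hM : Cfsg.IsPModular p M) (Z : Subgroup G)
    (hZ : Z ≤ Subgroup.center G) (θ : IrrCharacter G)
    (hdeg : (Cfsg.charDegree (θ : G → ℂ)).factorization p = Z.index.factorization p) :
    ∃ x : G, ¬ Cfsg.MemLocalIdeal M ((θ : G → ℂ) x) := by
  classical
  by_contra hall
  simp only [not_exists, not_not] at hall
  obtain ⟨hd0, hd⟩ := CfsgLib.Codegree.exists_degree θ
  obtain ⟨m, hm⟩ := charDegree_dvd_index θ Z hZ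
  set d := Cfsg.charDegree (θ : G → ℂ) with hddef
  have hm0 : m ≠ 0 := fun h => Subgroup.index_ne_zero_of_finite (H := Z) (by rw [hm, h, mul_zero])
  have hmp : ¬ p ∣ m := by
    rw [hm, Nat.factorization_mul hd0.ne' hm0] at hdeg
    simp only [Finsupp.coe_add, Pi.add_apply] at hdeg
    intro h
    have := hp.out.factorization_pos_of_dvd hm0 h
    omega
  obtain ⟨n, ρ, hρ, hρc⟩ := θ.2
  haveI : ρ.IsIrreducible := hρ
  haveI := CfsgLib.Characters.nontrivial_of_isIrreducible ρ
  have hmem : ∀ g : G, ∃ a : AlgInt, a ∈ M ∧ ((a : AlgInt) : ℂ) = conj ((θ : G → ℂ) g) := by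
    intro g
    rw [← CfsgLib.Characters.character_inv (CfsgLib.Characters.isCharacter_of_isIrr θ.2)]
    refine ⟨⟨_, CfsgLib.Characters.character_isIntegral
      (CfsgLib.Characters.isCharacter_of_isIrr θ.2) g⁻¹⟩, ?_, rfl⟩
    exact (memLocalIdeal_coe_iff _).1 (hall g⁻¹)
  choose a haM ha using hmem
  set rep : Finset G := Finset.univ.image (fun q : G ⧸ Z => q.out) with hrep
  refine not_scalar_of_coeff_mem hM ρ (fun g => if g ∈ rep then a g else 0)
    (fun g => by split_ifs; exacts [haM g, M.zero_mem]) hmp ?_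
  -- the full sum is `|G| / θ 1` times the identity
  have hfull : ∑ g : G, conj ((θ : G → ℂ) g) • ρ g =
      ((Nat.card G : ℂ) / (d : ℂ)) • LinearMap.id := by
    have hcl := CfsgLib.Characters.isClassFunction_of_isIrr θ.2
    obtain ⟨c, hc⟩ := CfsgLib.Characters.schur_scalar ρ
      (CfsgLib.Characters.avgOp (θ : G → ℂ) ρ) (CfsgLib.Characters.avgOp_comm hcl ρ)
    have h1 : c * (d : ℂ) = (Nat.card G : ℂ) := by
      rw [← hd, ← hρc, Representation.char_one,
        ← CfsgLib.Characters.trace_smul_id (V := Fin n → ℂ), ← hc,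
        CfsgLib.Characters.trace_avgOp, hρc, CfsgLib.Characters.classInner_isIrr_self θ.2, mul_one]
    rw [← h1, mul_div_assoc, div_self (Nat.cast_ne_zero.2 hd0.ne'), mul_one, ← hc,
      CfsgLib.Characters.avgOp]
    refine Fintype.sum_equiv (Equiv.inv G) _ _ fun g => ?_
    rw [Equiv.inv_apply, inv_inv,
      CfsgLib.Characters.character_inv (CfsgLib.Characters.isCharacter_of_isIrr θ.2)]
  have hconst : ∀ (g : G), ∀ z ∈ Z,
      conj ((θ : G → ℂ) (g * z)) • ρ (g * z) = conj ((θ : G → ℂ) g) • ρ g := by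
    intro g z hz
    obtain ⟨c, hc⟩ := CfsgLib.Characters.central_scalar ρ (hZ hz)
    have h1 : ρ (g * z) = c • ρ g := by
      rw [map_mul, hc]
      ext v
      simp
    have hnorm : conj c * c = 1 := by
      obtain ⟨w, hw⟩ := exists_ne (0 : Fin n → ℂ)
      have hk : ∀ k : ℕ, ρ (z ^ k) w = c ^ k • w := by
        intro k
        induction k with
        | zero => simp
        | succ k ih =>
          rw [pow_succ, map_mul, Module.End.mul_apply, hc, LinearMap.smul_apply,
            LinearMap.id_apply, map_smul, ih, smul_smul, pow_succ, mul_comm]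
      have h2 := hk (orderOf z)
      rw [pow_orderOf_eq_one, map_one, Module.End.one_apply] at h2
      have h3 : c ^ orderOf z = 1 := by
        have : (c ^ orderOf z - 1) • w = 0 := by rw [sub_smul, one_smul, ← h2, sub_self]
        exact sub_eq_zero.1 ((smul_eq_zero.1 this).resolve_right hw)
      rw [← Complex.normSq_eq_conj_mul_self, Complex.normSq_eq_norm_sq,
        Complex.norm_eq_one_of_pow_eq_one h3 (orderOf_pos z).ne']
      simp
    have h4 : (θ : G → ℂ) (g * z) = c * (θ : G → ℂ) g := by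
      rw [← hρc, Representation.character, h1, map_smul, smul_eq_mul]
      rfl
    rw [h4, h1, map_mul, smul_smul]
    congr 1
    linear_combination (conj ((θ : G → ℂ) g)) * hnorm
  have hZc : (Nat.card Z : ℂ) ≠ 0 := Nat.cast_ne_zero.2 Nat.card_pos.ne'
  haveI : Fintype Z := Fintype.ofFinite _
  have hsum : ∑ g : G, conj ((θ : G → ℂ) g) • ρ g =
      (Nat.card Z : ℂ) • ∑ g ∈ rep, conj ((θ : G → ℂ) g) • ρ g := by
    rw [show ∑ g ∈ rep, conj ((θ : G → ℂ) g) • ρ g =
        ∑ q : G ⧸ Z, conj ((θ : G → ℂ) q.out) • ρ q.out by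
          rw [hrep]; exact Finset.sum_image (f := fun g : G => conj ((θ : G → ℂ) g) • ρ g)
            (g := fun q : G ⧸ Z => q.out) (fun a _ b _ h => Quotient.out_injective h), Finset.smul_sum,
      ← Equiv.sum_comp (Subgroup.groupEquivQuotientProdSubgroup (s := Z)).symm,
      Fintype.sum_prod_type]
    refine Finset.sum_congr rfl fun q _ => ?_
    have h2 : ∀ z : Z, conj ((θ : G → ℂ)
        ((Subgroup.groupEquivQuotientProdSubgroup (s := Z)).symm (q, z))) •
        ρ ((Subgroup.groupEquivQuotientProdSubgroup (s := Z)).symm (q, z)) =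
          conj ((θ : G → ℂ) q.out) • ρ q.out := by
      intro z
      generalize hg : (Subgroup.groupEquivQuotientProdSubgroup (s := Z)).symm (q, z) = g
      have hq : (QuotientGroup.mk g : G ⧸ Z) = q :=
        (congrArg Prod.fst ((Equiv.symm_apply_eq _).1 hg)).symm
      obtain ⟨z', hz'⟩ : ∃ z' ∈ Z, g = q.out * z' :=
        ⟨q.out⁻¹ * g, QuotientGroup.eq.1 (by rw [hq, QuotientGroup.out_eq']), by group⟩
      rw [hz'.2, hconst _ _ hz'.1]
    rw [Finset.sum_congr rfl fun z _ => h2 z, Finset.sum_const, Finset.card_univ,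
      Nat.card_eq_fintype_card, Nat.cast_smul_eq_nsmul]
  have hgoal : ∑ g : G, (((if g ∈ rep then a g else 0 : AlgInt)) : ℂ) • ρ g =
      ∑ g ∈ rep, conj ((θ : G → ℂ) g) • ρ g := by
    rw [← Finset.sum_subset (Finset.subset_univ rep) (fun g _ hg => by simp [hg])]
    exact Finset.sum_congr rfl fun g hg => by rw [if_pos hg, ha]
  refine hgoal.trans ?_
  have hsm := hsum.symm.trans hfull
  calc ∑ g ∈ rep, conj ((θ : G → ℂ) g) • ρ g
      = (Nat.card Z : ℂ)⁻¹ • ((Nat.card Z : ℂ) • ∑ g ∈ rep, conj ((θ : G → ℂ) g) • ρ g) := by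
        rw [smul_smul, inv_mul_cancel₀ hZc, one_smul]
    _ = (m : ℂ) • LinearMap.id := by
        rw [hsm, smul_smul]
        congr 1
        rw [← Subgroup.card_mul_index Z, hm]
        have : (d : ℂ) ≠ 0 := Nat.cast_ne_zero.2 hd0.ne'
        push_cast
        field_simp

/-- A character with the full p-part of `[G : Z]` in its degree lies in a block with defect
group `Z`. -/
theorem isDefectGroup_of_degree (hM : Cfsg.IsPModular p M) {B : Set (IrrCharacter G)}
    (hB : Cfsg.IsPBlock M B) (Z : Subgroup G) (hZ : Z ≤ Subgroup.center G) (hZp : IsPGroup p Z)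
    {θ : IrrCharacter G} (hθ : θ ∈ B)
    (hdeg : (Cfsg.charDegree (θ : G → ℂ)).factorization p = Z.index.factorization p) :
    Cfsg.IsDefectGroup p M B Z := by
  haveI : Z.Normal := ⟨fun z hz g => by
    rwa [Subgroup.mem_center_iff.1 (hZ hz) g, mul_inv_cancel_right]⟩
  obtain ⟨x, hx⟩ := exists_value_not_mem hM Z hZ θ hdeg
  obtain ⟨hd0, -⟩ := CfsgLib.Codegree.exists_degree θ
  set C := Subgroup.centralizer ({x} : Set G) with hC
  have hω : Cfsg.MemLocalRing M (Cfsg.centralChar (θ : G → ℂ) x) :=
    memLocalRing_of_isIntegral (isIntegral_centralChar θ x)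
  have hi0 : C.index ≠ 0 := Subgroup.index_ne_zero_of_finite
  have heq := (index_mul_charValue θ x).symm
  have hle1 : Z.index.factorization p ≤ C.index.factorization p :=
    hdeg ▸ factorization_le_of_mul_eq hM hi0 hω hx heq
  have hZC : Z ≤ C := fun z hz => Subgroup.mem_centralizer_singleton_iff.2
    (Subgroup.mem_center_iff.1 (hZ hz) x).symm
  have hle2 : C.index.factorization p ≤ Z.index.factorization p :=
    (Nat.factorization_le_iff_dvd hi0 Subgroup.index_ne_zero_of_finite).2
      (Subgroup.index_dvd_of_le hZC) p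
  have hiv : (Cfsg.charDegree (θ : G → ℂ)).factorization p = C.index.factorization p := by omega
  have hunit : omegaBar M θ (classSum _ (ConjClasses.mk x)) ≠ 0 := by
    rw [← not_memLocalIdeal_centralChar_iff]
    exact fun h => hx (memLocalIdeal_of_mul_eq hM hd0.ne' hi0 hiv h heq)
  obtain ⟨D, hD⟩ := exists_isDefectGroup (p := p) hB
  obtain ⟨S, hS, -⟩ := exists_isSylowIn_ge (p := p) (K := C) IsPGroup.of_bot bot_le
  obtain ⟨y, hy⟩ := IsDefectGroup.exists_conj_le hM hB hD hθ hunit hS
  have hZD : Z ≤ D := IsDefectGroup.le_of_normal hM hB hD Z hZp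
  have hcard : Nat.card S = Nat.card Z := by
    obtain ⟨k, hk⟩ := IsPGroup.iff_card.1 hZp
    rw [hS.card_eq, hk]
    congr 1
    have e1 := congrArg (fun n => n.factorization p) (Z.card_mul_index.trans C.card_mul_index.symm)
    simp only [Nat.factorization_mul Nat.card_pos.ne' Subgroup.index_ne_zero_of_finite,
      Finsupp.coe_add, Pi.add_apply] at e1
    rw [hk, hp.out.factorization_pow, Finsupp.single_eq_same] at e1
    omega
  have : Z = D := Subgroup.eq_of_le_of_card_ge hZD (by
    rw [← hcard, ← CfsgLib.BlockPairs.card_cj y D]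
    exact Subgroup.card_le_of_le hy)
  exact this ▸ hD

/-- In a block with central defect group `Z` every degree has the full p-part of `[G : Z]`. -/
theorem factorization_charDegree (hM : Cfsg.IsPModular p M) {B : Set (IrrCharacter G)}
    (hB : Cfsg.IsPBlock M B) (Z : Subgroup G) (hZ : Z ≤ Subgroup.center G)
    (hD : Cfsg.IsDefectGroup p M B Z) {θ : IrrCharacter G} (hθ : θ ∈ B) :
    (Cfsg.charDegree (θ : G → ℂ)).factorization p = Z.index.factorization p := by
  obtain ⟨g, hg, hS⟩ := CfsgLib.Blocks.isDefectGroup_iff.1 hD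
  obtain ⟨hd0, -⟩ := CfsgLib.Codegree.exists_degree θ
  set C := Subgroup.centralizer ({g} : Set G) with hC
  have hω := hg.2.2 θ hθ
  have hi0 : C.index ≠ 0 := Subgroup.index_ne_zero_of_finite
  have h1 : C.index.factorization p ≤ (Cfsg.charDegree (θ : G → ℂ)).factorization p :=
    factorization_le_of_mul_eq hM hd0.ne'
      (memLocalRing_of_isIntegral (CfsgLib.Characters.character_isIntegral
        (CfsgLib.Characters.isCharacter_of_isIrr θ.2) g)) hω (index_mul_charValue θ g)
  have h2 : (Cfsg.charDegree (θ : G → ℂ)).factorization p ≤ Z.index.factorization p :=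
    (Nat.factorization_le_iff_dvd hd0.ne' Subgroup.index_ne_zero_of_finite).2
      (charDegree_dvd_index θ Z hZ) p
  have h3 : Z.index.factorization p = C.index.factorization p := by
    have e1 := congrArg (fun n => n.factorization p) (Z.card_mul_index.trans C.card_mul_index.symm)
    have e2 := congrArg (fun n => n.factorization p) hS.card_eq
    simp only [hp.out.factorization_pow, Finsupp.single_eq_same] at e2
    simp only [Nat.factorization_mul Nat.card_pos.ne' Subgroup.index_ne_zero_of_finite,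
      Finsupp.coe_add, Pi.add_apply] at e1
    omega
  omega

/-- A block contains a character with a given central p-subgroup in its kernel. -/
theorem exists_kerContains (hM : Cfsg.IsPModular p M) {B : Set (IrrCharacter G)}
    (hB : Cfsg.IsPBlock M B) (Z : Subgroup G) [Z.Normal] (hZp : IsPGroup p Z) :
    ∃ θ ∈ B, ∀ z ∈ Z, (θ : G → ℂ) z = (θ : G → ℂ) 1 := by
  classical
  haveI : Fintype Z := Fintype.ofFinite _
  by_contra hno
  have h0 : ∀ θ ∈ B, ∑ z : Z, (θ : G → ℂ) (z : G) = 0 := by
    intro θ hθ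
    simpa using CfsgLib.Codegree.sum_coset_eq_zero θ Z (fun h => hno ⟨θ, hθ, h⟩) 1
  have hA := isBlockUnion_of_isPBlock hB
  have h1 : ∑ z : Z, Cfsg.blockCoeff B (z : G) = Cfsg.blockCoeff B 1 := by
    rw [Finset.sum_eq_single (1 : Z) ?_ (by simp)]
    · simp
    · intro z _ hz
      obtain ⟨k, hk⟩ := IsPGroup.iff_orderOf.1 hZp z
      refine CfsgLib.BlocksCharsC.blockCoeff_eq_zero hM hA ?_
      rw [Subgroup.orderOf_coe, hk]
      refine dvd_pow_self p fun h => hz (orderOf_eq_one_iff.1 ?_)
      rw [hk, h, pow_zero]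
  have h2 : ∑ z : Z, Cfsg.blockCoeff B (z : G) = 0 := by
    simp only [CfsgLib.Blocks.blockCoeff_eq_sum, ← Finset.mul_sum]
    rw [Finset.sum_comm]
    refine mul_eq_zero_of_right _ (Finset.sum_eq_zero fun θ _ => ?_)
    split_ifs with hθ
    · rw [← Finset.mul_sum, ← map_sum, h0 θ hθ, map_zero, mul_zero]
    · simp
  rw [h2, CfsgLib.Blocks.blockCoeff_eq_sum] at h1
  have h3 : ∑ χ : IrrCharacter G, (if χ ∈ B then (Cfsg.charDegree (χ : G → ℂ)) ^ 2 else 0 : ℕ) =
      0 := by
    have := (mul_eq_zero.1 h1.symm).resolve_left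
      (inv_ne_zero (Nat.cast_ne_zero.2 Nat.card_pos.ne'))
    apply Nat.cast_injective (R := ℂ)
    rw [Nat.cast_zero, ← this, Nat.cast_sum]
    refine Finset.sum_congr rfl fun χ _ => ?_
    rw [(CfsgLib.Codegree.exists_degree χ).2, Complex.conj_natCast]
    split_ifs
    · push_cast; ring
    · simp
  obtain ⟨χ, hχ⟩ := isPBlock_nonempty hB
  have := Finset.sum_eq_zero_iff.1 h3 χ (Finset.mem_univ _)
  rw [if_pos hχ] at this
  exact pow_ne_zero 2 (CfsgLib.Codegree.exists_degree χ).1.ne' this

end CfsgLib.CentralDefect
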