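import Cfsg.Agent.BlockPairs.Maximal
import Mathlib.GroupTheory.PGroup

/-!
# When is a Brauer pair maximal?

`(Q, f)` is a maximal pair of its block exactly when `Q ∩ C(Q)` is a defect group of `f` in
`C(Q)` and every p-element of the stabilizer of the pair lies in `Q C(Q)`.
-/

set_option autoImplicit false
set_option linter.style.haveILetI false
set_option linter.unusedSectionVars false

namespace CfsgLib.CentralDefect

open CfsgLib.BlockPairs

variable {F : Type*} [Field F] {G : Type*} [Group G] [Finite G] {p : ℕ} [hp : Fact p.Prime]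
  [CharP F p]

theorem classSum_eq_of_conj {C : Subgroup G} {g x : G} (h : ∃ c ∈ C, c * g * c⁻¹ = x) :
    classSum F C x = classSum F C g := by
  classical
  obtain ⟨c, hc, rfl⟩ := h
  refine ga_ext fun y => ?_
  rw [classSum_coeff, classSum_coeff]
  refine if_congr ⟨?_, ?_⟩ rfl rfl
  · rintro ⟨d, hd, rfl⟩
    exact ⟨d * c, C.mul_mem hd hc, by group⟩
  · rintro ⟨d, hd, rfl⟩
    exact ⟨d * c⁻¹, C.mul_mem hd (C.inv_mem hc), by group⟩

theorem conjA_classSum {C : Subgroup G} {t : G} (ht : t ∈ Subgroup.normalizer (C : Set G)) (g : G) :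
    conjA F t (classSum F C g) = classSum F C (t * g * t⁻¹) := by
  classical
  refine ga_ext fun y => ?_
  rw [conjA_coeff, classSum_coeff, classSum_coeff]
  refine if_congr ⟨?_, ?_⟩ rfl rfl
  · rintro ⟨d, hd, hde⟩
    refine ⟨t * d * t⁻¹, (Subgroup.mem_normalizer_iff.1 ht d).1 hd, ?_⟩
    calc t * d * t⁻¹ * (t * g * t⁻¹) * (t * d * t⁻¹)⁻¹ = t * (d * g * d⁻¹) * t⁻¹ := by group
      _ = y := by rw [hde]; group
  · rintro ⟨d, hd, rfl⟩
    refine ⟨t⁻¹ * d * t, ?_, by group⟩
    simpa using (Subgroup.mem_normalizer_iff.1 ((Subgroup.normalizer (C : Set G)).inv_mem ht) d).1 hd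

/-- A normal subgroup's central character does not see conjugation in the stabilizer. -/
theorem omega_conjA [IsAlgClosed F] {C : Subgroup G} {f z : GA F G} (hf : IsBlock C f) {t : G}
    (ht : t ∈ Subgroup.normalizer (C : Set G)) (hfix : conjA F t f = f) (hz : z ∈ sub C C) :
    omega C f (conjA F t z) = omega C f z := by
  have hzt : conjA F t z ∈ sub C C := by
    have := conjA_mem_sub hz t
    rwa [cj_eq_self ht] at this
  refine omega_unique hf hzt ?_
  obtain ⟨n, hn⟩ := isNilpotent_omega hf hz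
  refine ⟨n, ?_⟩
  have key : conjA F t z * f - omega C f z • f = conjA F t (z * f - omega C f z • f) := by
    rw [conjA_sub, conjA_mul, conjA_smul, hfix]
  have hpow : ∀ (a : GA F G) (k : ℕ), (conjA F t a) ^ k = conjA F t (a ^ k) := by
    intro a k
    induction k with
    | zero => rw [pow_zero, pow_zero, conjA_one]
    | succ k ih => rw [pow_succ, pow_succ, ih, conjA_mul]
  rw [key, hpow, hn, conjA_zero]

theorem centralizer_le_stab_normalizer {Q : Subgroup G} {f : GA F G} :
    stab ⊤ Q f ≤ Subgroup.normalizer ((cent ⊤ Q : Subgroup G) : Set G) := fun t ht =>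
  mem_normalizer_of_cj_eq (by rw [cj_cent (Subgroup.mem_top t), cj_eq_self ht.1.2])

/-- Every p-element of the stabilizer lies in `Q C(Q)` when `Q` is a defect group there. -/
theorem mem_sup_of_defect [IsAlgClosed F] {Q : Subgroup G} {f : GA F G}
    (h : IsPair p ⊤ Q f) (hd : IsDefectGrp p (stab ⊤ Q f) f Q) {u : G} (hu : u ∈ stab ⊤ Q f)
    (hup : ∃ k : ℕ, orderOf u = p ^ k) : u ∈ Q ⊔ cent ⊤ Q := by
  classical
  set T := stab ⊤ Q f with hT
  letI := Fintype.ofFinite T
  set C := cent ⊤ Q with hC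
  have hblkT := block_stabilizer h
  have hblkC : IsBlock C f := h.2.2
  have hCT : C ≤ T := h.cent_le_stab
  have hnorm : T ≤ Subgroup.normalizer (C : Set G) := centralizer_le_stab_normalizer
  obtain ⟨g, hgT, hcoeff, hom⟩ := exists_class_omega_ne_zero hblkT hblkT.mem
    (by rw [omega_self hblkT]; exact one_ne_zero)
  have hgC : g ∈ C := hblkC.supp g hcoeff
  obtain ⟨D, hD, hDp, hmax⟩ :=
    exists_sylow_le (p := p) (T ⊓ Subgroup.centralizer ({g} : Set G))
  have hDd : IsDefectGrp p T f D := exists_defectGrp_of_class hblkT hgT hcoeff hom hD hDp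
    fun R hR hRp => by
      obtain ⟨c, hc, hle⟩ := hmax R hR hRp
      exact ⟨c, hc.1, hle⟩
  have hDQ : D = Q := by
    obtain ⟨x, hx, hxe⟩ := hDd.conj_of hd
    rwa [cj_eq_self hx.1.2, eq_comm] at hxe
  subst hDQ
  -- p-subgroups of the centralizer of `g` lie in `Q`
  have hsyl : ∀ R : Subgroup G, R ≤ T ⊓ Subgroup.centralizer ({g} : Set G) → IsPGroup p R →
      R ≤ D := fun R hR hRp => by
    obtain ⟨c, hc, hle⟩ := hmax R hR hRp
    have := cj_mono c⁻¹ hle
    rwa [cj_inv_cj, cj_eq_self ((Subgroup.normalizer (D : Set G)).inv_mem hc.1.1.2)] at this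
  -- the class sums of `C` inside the class of `g`
  set z := classSum F C g with hz
  set s : Finset (GA F G) := Finset.univ.image
    (fun t : T => conjA F (t : G) z) with hs
  have hsum : classSum F T g = ∑ w ∈ s, w := by
    refine ga_ext fun x => ?_
    rw [classSum_coeff]
    have hcoe : (∑ w ∈ s, w).coeff x = ∑ w ∈ s, w.coeff x := by simp [MonoidAlgebra.coeff_sum]
    rw [hcoe]
    split_ifs with hx
    · obtain ⟨t, ht, rfl⟩ := hx
      rw [Finset.sum_eq_single (classSum F C (t * g * t⁻¹))]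
      · rw [classSum_coeff, if_pos ⟨1, C.one_mem, by simp⟩]
      · intro w hw hne
        obtain ⟨a, -, rfl⟩ := Finset.mem_image.1 hw
        rw [hz, conjA_classSum (hnorm a.2), classSum_coeff, if_neg]
        intro hex
        refine hne ?_
        rw [hz, conjA_classSum (hnorm a.2)]
        exact (classSum_eq_of_conj hex).symm
      · intro hnot
        refine absurd (Finset.mem_image.2 ⟨⟨t, ht⟩, Finset.mem_univ _, ?_⟩) hnot
        exact conjA_classSum (hnorm ht) g
    · symm
      refine Finset.sum_eq_zero fun w hw => ?_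
      obtain ⟨a, -, rfl⟩ := Finset.mem_image.1 hw
      rw [hz, conjA_classSum (hnorm a.2), classSum_coeff, if_neg]
      rintro ⟨c, hc, rfl⟩
      exact hx ⟨c * a, T.mul_mem (hCT hc) a.2, by group⟩
  have hmem : ∀ w ∈ s, w ∈ sub C C := by
    intro w hw
    obtain ⟨a, -, rfl⟩ := Finset.mem_image.1 hw
    have := conjA_mem_sub (classSum_mem_sub (F := F) hgC) (a : G)
    rwa [cj_eq_self (hnorm a.2)] at this
  have hzT : classSum F T g ∈ sub C C := by
    rw [hsum]; exact Subalgebra.sum_mem _ hmem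
  have hωT : omega C f (classSum F T g) = omega T f (classSum F T g) :=
    omega_unique hblkC hzT (isNilpotent_omega hblkT (classSum_mem_sub hgT))
  have hcard : ¬ p ∣ s.card := by
    intro hdvd
    refine hom ?_
    rw [← hωT, hsum, omega_sum hblkC _ _ hmem,
      Finset.sum_congr rfl (g := fun _ => omega C f z) fun w hw => ?_]
    · rw [Finset.sum_const, nsmul_eq_mul, (CharP.cast_eq_zero_iff F p _).2 hdvd, zero_mul]
    · obtain ⟨a, -, rfl⟩ := Finset.mem_image.1 hw
      exact omega_conjA hblkC (hnorm a.2) a.2.2 (classSum_mem_sub hgC)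
  -- a conjugate of `u` fixes the class
  obtain ⟨k, hk⟩ := hup
  have hstable : ∀ (v : Subgroup.zpowers u) (w : GA F G), w ∈ s → conjA F (v : G) w ∈ s := by
    intro v w hw
    obtain ⟨a, -, rfl⟩ := Finset.mem_image.1 hw
    refine Finset.mem_image.2 ⟨⟨(v : G) * a, T.mul_mem (Subgroup.zpowers_le.2 hu v.2) a.2⟩,
      Finset.mem_univ _, ?_⟩
    exact (conjA_conjA _ _ _).symm
  letI : MulAction (Subgroup.zpowers u) s :=
    { smul := fun v w => ⟨conjA F (v : G) w.1, hstable v w.1 w.2⟩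
      one_smul := fun w => Subtype.ext (conjA_one_left _)
      mul_smul := fun a b w => Subtype.ext (conjA_conjA _ _ _).symm }
  have hpg : IsPGroup p (Subgroup.zpowers u) :=
    IsPGroup.of_card (n := k) (by rw [Nat.card_zpowers, hk])
  obtain ⟨⟨w, hw⟩, hfix⟩ := hpg.nonempty_fixed_point_of_prime_not_dvd_card s
    (by rwa [Nat.card_eq_fintype_card, Fintype.card_coe])
  obtain ⟨⟨t, ht⟩, -, rfl⟩ := Finset.mem_image.1 hw
  have hfix' : conjA F u (conjA F t z) = conjA F t z :=
    congrArg Subtype.val (hfix ⟨u, Subgroup.mem_zpowers u⟩)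
  set v := t⁻¹ * u * t with hv
  have hvT : v ∈ T := T.mul_mem (T.mul_mem (T.inv_mem ht) hu) ht
  have hvz : conjA F v z = z := by
    rw [hv, ← conjA_conjA, ← conjA_conjA, hfix', conjA_inv]
  obtain ⟨c, hc, hcv⟩ : ∃ c ∈ C, c * g * c⁻¹ = v * g * v⁻¹ := by
    have h1 : (conjA F v z).coeff (v * g * v⁻¹) = 1 := by
      rw [hz, conjA_classSum (hnorm hvT), classSum_coeff, if_pos ⟨1, C.one_mem, by simp⟩]
    rw [hvz, hz, classSum_coeff] at h1
    by_contra hcon
    rw [if_neg hcon] at h1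
    exact zero_ne_one h1
  set x := c⁻¹ * v with hx
  have hxT : x ∈ T := T.mul_mem (T.inv_mem (hCT hc)) hvT
  have hxg : x ∈ Subgroup.centralizer ({g} : Set G) := by
    rw [Subgroup.mem_centralizer_singleton_iff]
    calc c⁻¹ * v * g = c⁻¹ * (v * g * v⁻¹) * v := by group
      _ = g * (c⁻¹ * v) := by rw [← hcv]; group
  have hpow : ∀ m : ℕ, v ^ m * (x ^ m)⁻¹ ∈ C := by
    intro m
    induction m with
    | zero => simp
    | succ m ih =>
      have hvx : v = c * x := by rw [hx]; group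
      have hN := hnorm hxT
      have h1 : v ^ (m + 1) * (x ^ (m + 1))⁻¹ = c * (x * (v ^ m * (x ^ m)⁻¹) * x⁻¹) := by
        rw [pow_succ' v, pow_succ' x]
        nth_rewrite 1 [hvx]
        group
      rw [h1]
      exact C.mul_mem hc ((Subgroup.mem_normalizer_iff.1 hN _).1 ih)
  set m := orderOf x / p ^ (orderOf x).factorization p with hm
  have hmp : ¬ p ∣ m := Nat.not_dvd_ordCompl hp.out (orderOf_pos x).ne'
  have hxm : x ^ m ∈ D := by
    refine hsyl (Subgroup.zpowers (x ^ m))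
      (Subgroup.zpowers_le.2 ⟨T.pow_mem hxT m, Subgroup.pow_mem _ hxg m⟩) ?_ (Subgroup.mem_zpowers _)
    refine IsPGroup.of_card (n := (orderOf x).factorization p) ?_
    have hdvd : m ∣ orderOf x := Nat.ordCompl_dvd _ _
    rw [Nat.card_zpowers, orderOf_pow_of_dvd (fun h => hmp (by rw [h]; exact dvd_zero p)) hdvd, hm,
      Nat.div_div_self (Nat.ordProj_dvd _ _) (orderOf_pos x).ne']
  have hvm : v ^ m ∈ D ⊔ C := by
    have : v ^ m = v ^ m * (x ^ m)⁻¹ * x ^ m := by group
    rw [this]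
    exact Subgroup.mul_mem _ (Subgroup.mem_sup_right (hpow m)) (Subgroup.mem_sup_left hxm)
  have hvo : orderOf v = p ^ k := by
    rw [← hk, hv, show t⁻¹ * u * t = MulAut.conj t⁻¹ u by simp, MulEquiv.orderOf_eq]
  have hvmem : v ∈ D ⊔ C := by
    have hcop : Nat.Coprime (orderOf v) m := by
      rw [hvo]; exact Nat.Coprime.pow_left k (hp.out.coprime_iff_not_dvd.2 hmp)
    have : v ∈ Subgroup.zpowers (v ^ m) :=
      (mem_zpowers_pow_iff (g := v) (k := m)).2 hcop.symm
    exact (Subgroup.zpowers_le.2 hvm) this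
  have hmap : cj t (D ⊔ C) = D ⊔ C := by
    rw [cj, Subgroup.map_sup]
    exact congrArg₂ (· ⊔ ·) (cj_eq_self ht.1.2) (cj_eq_self (hnorm ht))
  rw [← hmap, mem_cj]
  exact hvmem

/-- If `Q` is a defect group in the stabilizer, `Q ∩ C(Q)` is one in `C(Q)`. -/
theorem defect_cent_of_defect_stab [IsAlgClosed F] {Q : Subgroup G} {f : GA F G}
    (h : IsPair p ⊤ Q f) (hd : IsDefectGrp p (stab ⊤ Q f) f Q) :
    IsDefectGrp p (cent ⊤ Q) f (Q ⊓ cent ⊤ Q) := by
  obtain ⟨D, hD⟩ := exists_defectGrp (p := p) h.2.2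
  obtain ⟨x, hx, hle⟩ := hd.2.2.2 D (hD.1.trans h.cent_le_stab) hD.2.1 hD.2.2.1
  have hDQ : D ≤ Q := by
    have := cj_mono x⁻¹ hle
    rwa [cj_inv_cj, cj_eq_self ((Subgroup.normalizer (Q : Set G)).inv_mem hx.1.2)] at this
  have hN : cent ⊤ Q ≤ Subgroup.normalizer ((Q ⊓ cent ⊤ Q : Subgroup G) : Set G) := by
    refine le_trans ?_ (Subgroup.centralizer_le_normalizer _)
    intro c hc
    refine Subgroup.mem_centralizer_iff.2 fun y hy => ?_
    exact Subgroup.mem_centralizer_iff.1 hc.2 y hy.1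
  have hZD : Q ⊓ cent ⊤ Q ≤ D := hD.le_of_normal h.2.2.mem h.2.2.idem h.2.2.ne_zero
    (h.2.1.to_le inf_le_left) inf_le_right hN
  rwa [le_antisymm hZD (le_inf hDQ hD.1)]

/-- The converse criterion. -/
theorem defect_stab_of_defect_cent {Q : Subgroup G} {f : GA F G} (h : IsPair p ⊤ Q f)
    (hd : IsDefectGrp p (cent ⊤ Q) f (Q ⊓ cent ⊤ Q))
    (hel : ∀ u ∈ stab ⊤ Q f, (∃ k : ℕ, orderOf u = p ^ k) → u ∈ Q ⊔ cent ⊤ Q) :
    IsDefectGrp p (stab ⊤ Q f) f Q := by
  have hsupp : IsSupp (Subgroup.centralizer (Q : Set G)) f := h.2.2.supp.mono inf_le_right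
  refine ⟨h.le_stab, h.2.1, by rw [br_eq_self hsupp]; exact h.2.2.ne_zero, ?_⟩
  intro R hR hRp hbr
  refine ⟨1, one_mem _, ?_⟩
  rw [cj_one]
  set S := R ⊔ Q with hS
  have hSp : IsPGroup p S :=
    IsPGroup.to_sup_of_normal_right' hRp h.2.1 (hR.trans stab_le_normalizer)
  have hbrS : br S f ≠ 0 := by
    intro h0
    refine hbr (ga_ext fun g => ?_)
    by_cases hg : g ∈ Subgroup.centralizer (R : Set G)
    · rw [br_coeff_mem R f hg]
      by_cases hgQ : g ∈ Subgroup.centralizer (Q : Set G)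
      · have hgS : g ∈ Subgroup.centralizer (S : Set G) := by
          have hsub : S ≤ Subgroup.centralizer ({g} : Set G) :=
            sup_le (fun u hu => Subgroup.mem_centralizer_singleton_iff.2
              (Subgroup.mem_centralizer_iff.1 hg u hu))
              (fun u hu => Subgroup.mem_centralizer_singleton_iff.2
              (Subgroup.mem_centralizer_iff.1 hgQ u hu))
          exact Subgroup.mem_centralizer_iff.2 fun u hu =>
            Subgroup.mem_centralizer_singleton_iff.1 (hsub hu)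
        rw [← br_coeff_mem S f hgS, h0]
      · rw [hsupp.coeff_eq_zero hgQ]; simp
    · rw [br_coeff_not_mem R f hg]; simp
  set S' := S ⊓ cent ⊤ Q with hS'
  obtain ⟨c, hc, hle⟩ := hd.2.2.2 S' inf_le_right (hSp.to_le inf_le_left)
    fun h0 => hbrS (br_eq_zero_of_le inf_le_left h0)
  have hS'Q : S' ≤ Q := fun y hy => by
    have h1 : c * y * c⁻¹ ∈ Q ⊓ cent ⊤ Q := hle (mem_cj.2 (by simpa [mul_assoc] using hy))
    have h2 : c * y * c⁻¹ ∈ Q := h1.1
    have h3 := Subgroup.mem_centralizer_iff.1 hc.2 _ h2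
    have h4 : y = c * y * c⁻¹ := by
      calc y = c⁻¹ * ((c * y * c⁻¹) * c) := by group
        _ = c * y * c⁻¹ := by rw [h3]; group
    rw [h4]; exact h2
  intro r hr
  obtain ⟨j, hj⟩ := IsPGroup.iff_orderOf.1 hRp ⟨r, hr⟩
  rw [Subgroup.orderOf_mk] at hj
  have hmem := hel r (hR hr) ⟨j, hj⟩
  rw [← SetLike.mem_coe, sup_comm,
    Subgroup.coe_mul_of_left_le_normalizer_right (cent ⊤ Q) Q cent_le_normalizer] at hmem
  obtain ⟨c', hc', q, hq, rfl⟩ := Set.mem_mul.1 hmem
  have hc'S : c' ∈ S' := ⟨by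
    have := S.mul_mem (Subgroup.mem_sup_left hr : c' * q ∈ S)
      (S.inv_mem (Subgroup.mem_sup_right hq : q ∈ S))
    simpa using this, hc'⟩
  exact Q.mul_mem (hS'Q hc'S) hq

/-- Maximality of a pair in some block is the defect group condition in its stabilizer. -/
theorem exists_isMaxPair_iff [IsAlgClosed F] {Q : Subgroup G} {f : GA F G}
    (h : IsPair p ⊤ Q f) :
    (∃ b : GA F G, IsBlock (⊤ : Subgroup G) b ∧ IsMaxPair p ⊤ b Q f) ↔
      IsDefectGrp p (cent ⊤ Q) f (Q ⊓ cent ⊤ Q) ∧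
        ∀ u ∈ stab ⊤ Q f, (∃ k : ℕ, orderOf u = p ^ k) → u ∈ Q ⊔ cent ⊤ Q := by
  constructor
  · rintro ⟨b, hb, hmax⟩
    have hd := hmax.defect_stab hb
    exact ⟨defect_cent_of_defect_stab h hd, fun u hu hup => mem_sup_of_defect h hd hu hup⟩
  · rintro ⟨h1, h2⟩
    have hd := defect_stab_of_defect_cent h h1 h2
    obtain ⟨b, ⟨hb, hbf⟩, -⟩ := exists_unique_block_of_pair h
    have hblk := isBlock_orbitSum h
    refine ⟨b, hb, isMaxPair_of_defect ?_ ⟨h, hbf⟩⟩
    refine (firstMain hb hblk (isDefectGrp_orbitSum h hd.2.2.2) ?_).1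
    have hbrm : br Q b ∈ sub ((⊤ : Subgroup G) ⊓ Subgroup.normalizer (Q : Set G))
        ((⊤ : Subgroup G) ⊓ Subgroup.normalizer (Q : Set G)) :=
      ⟨(isSupp_br_of hb.supp).mono (le_inf inf_le_left cent_le_normalizer),
        isFixed_br inf_le_right (hb.fixed.mono inf_le_left)⟩
    rcases hblk.dichotomy hbrm (br_idem h.2.1 (hb.fixed.mono h.1) hb.idem) with h0 | h0
    · refine absurd ?_ h.2.2.ne_zero
      have := congrArg (· * f) h0
      simp only [zero_mul, mul_assoc, orbitSum_mul_self h, hbf] at this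
      exact this
    · exact h0

end CfsgLib.CentralDefect
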